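import Groth.Agent.L15.Frob.Degree
import Groth.Agent.L15.Frob.Sch
import Groth.Agent.L21.Disc.HurwitzOmega
import Groth.Agent.L21.SmoothCurveDim
import Groth.Agent.L03.SurfAdj.Tools
import Groth.Agent.L16.SecComp.Smooth
import Mathlib.Algebra.CharP.Frobenius

/-!
Iterated relative Frobenius of a smooth curve.
-/

set_option autoImplicit false
set_option backward.isDefEq.respectTransparency false
set_option linter.style.haveILetI false
universe u

open CategoryTheory CategoryTheory.Limits AlgebraicGeometry

noncomputable section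

namespace Groth.L21.Insep

open Groth.L21.Disc (overMap)

theorem overMap_comp {X Y Z : Scheme.{u}} (f : X ⟶ Y) (g : Y ⟶ Z) {x : X} {y : Y} {z : Z}
    (h : f x = y) (h' : g y = z) (h'' : (f ≫ g) x = z) :
    overMap (f ≫ g) x z h'' = (overMap f x y h).comp (overMap g y z h') := by
  subst h; subst h'
  rw [Groth.L21.Disc.overMap_self, Groth.L21.Disc.overMap_self]
  exact (Groth.L21.Disc.overMap_self (f ≫ g) x).trans
    (congrArg CommRingCat.Hom.hom (Scheme.Hom.stalkMap_comp f g x))

theorem overMap_congr {X Y : Scheme.{u}} {f f' : X ⟶ Y} (e : f = f') {x : X} {y : Y} (h : f x = y)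
    (h' : f' x = y) : overMap f x y h = overMap f' x y h' := by
  subst e; rfl

theorem overMap_frob {X : Scheme.{u}} (p : ℕ) [Fact p.Prime] [FrobSch.IsCharP X p] (x : X)
    (a : X.presheaf.stalk x) : overMap (FrobSch.frob X p) x x (FrobSch.frob_apply X p x) a = a ^ p := by
  obtain ⟨U, hx, s, rfl⟩ := X.presheaf.exists_germ_eq a
  rw [Groth.L21.Disc.overMap_germ]
  exact (congrArg (X.presheaf.germ U x hx) (FrobSch.frob_app X p U s)).trans (map_pow _ s p)

/-- Every point of the spectrum of a local ring over a point is a constant map. -/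
theorem fromSpecStalk_comp {R : Type u} [CommRing R] {Z : Scheme.{u}} (g : Z ⟶ Spec (CommRingCat.of R)) (z : Z) :
    Z.fromSpecStalk z ≫ g =
      Spec.map ((Scheme.ΓSpecIso (CommRingCat.of R)).inv ≫ g.appTop ≫ Z.presheaf.germ ⊤ z trivial) := by
  rw [Spec.map_comp, Spec.map_comp, ← Scheme.fromSpecStalk_toSpecΓ, Category.assoc, Category.assoc,
    ← reassoc_of% (Scheme.toSpecΓ_naturality g), ← Scheme.isoSpec_Spec_inv, Scheme.toSpecΓ_isoSpec_inv, Category.comp_id]

variable (k : Type u) [Field k] (p : ℕ) [hp : Fact p.Prime] [CharP k p]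

/-- The iterated relative Frobenius of a smooth curve: a degree `p ^ r` map onto the twist. -/
theorem exists_frobPow {X : Scheme.{u}} [IsIntegral X] (s : X ⟶ Spec (CommRingCat.of k)) [IsProper s] [Smooth s]
    (hd : topologicalKrullDim X = 1) : ∀ r : ℕ,
    ∃ (Z : Scheme.{u}) (π : Z ⟶ X) (sZ : Z ⟶ Spec (CommRingCat.of k)) (F : X ⟶ Z)
      (_ : IsIntegral Z) (hη : F (genericPoint X) = genericPoint Z),
      IsPullback π sZ s (Spec.map (CommRingCat.ofHom (iterateFrobenius k p r))) ∧
      F ≫ sZ = s ∧ Surjective F ∧ F.residueDegree (genericPoint X) = p ^ r ∧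
      ∀ a : X.functionField, a ^ p ^ r ∈ (overMap F (genericPoint X) (genericPoint Z) hη).range := by
  intro r
  induction r with
  | zero =>
    refine ⟨X, 𝟙 X, s, 𝟙 X, ‹_›, rfl, ?_, Category.id_comp s, inferInstance, ?_, fun a => ?_⟩
    · rw [iterateFrobenius_zero, CommRingCat.ofHom_id, Spec.map_id]
      exact IsPullback.of_horiz_isIso ⟨by simp⟩
    · rw [pow_zero]
      exact Groth.L22.Cyc.residueDegree_eq_one _ _ (Groth.L22.FibreDim.residueFieldMap_bijective _ _)
    · refine ⟨a, ?_⟩
      rw [pow_zero, pow_one]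
      exact (congrArg (fun (φ : X.functionField →+* X.functionField) => φ a)
        ((Groth.L21.Disc.overMap_self (𝟙 X) (genericPoint X)).trans
          (congrArg CommRingCat.Hom.hom (Scheme.Hom.stalkMap_id X (genericPoint X))))).trans rfl
  | succ r ih =>
    obtain ⟨Z, π, sZ, F, hZ, hη, hpb, hF, hsurj, hdeg, hpow⟩ := ih
    haveI := hZ
    haveI : SmoothOfRelativeDimension 1 s := Groth.L21.SmoothCurve.smoothOfRelativeDimension_one s hd
    haveI : SmoothOfRelativeDimension 1 sZ :=
      (smoothOfRelativeDimension_isStableUnderBaseChange (n := 1)).of_isPullback hpb inferInstance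
    haveI : IsProper sZ := MorphismProperty.of_isPullback hpb inferInstance
    haveI : Smooth sZ := SmoothOfRelativeDimension.smooth 1 sZ
    letI : Z.Over (Spec (CommRingCat.of k)) := ⟨sZ⟩
    haveI : GeometricallyReduced (Z ↘ Spec (CommRingCat.of k)) :=
      Groth.L16.SecComp.geometricallyReduced_of_smooth sZ
    haveI : LocallyOfFiniteType (Z ↘ Spec (CommRingCat.of k)) := (inferInstance : LocallyOfFiniteType sZ)
    haveI := Groth.L15.Frob.isIntegral_frobTwist k p Z
    haveI := FrobSch.IsCharP.of_hom sZ p
    let rF := FrobSch.relFrob sZ p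
    haveI : IsIntegral (FrobSch.frobTwist sZ p) := Groth.L15.Frob.isIntegral_frobTwist k p Z
    have hu : Surjective rF :=
      ⟨(Groth.L20.isHomeomorph_of_isUnivHomeo (Groth.L15.Frob.isUnivHomeo_relFrob p sZ)).surjective⟩
    haveI := hu
    haveI := hsurj
    have hgen : ∀ {A B : Scheme.{u}} [IsIntegral A] [IsIntegral B] (g : A ⟶ B) [Surjective g],
        g (genericPoint A) = genericPoint B := fun {A B} _ _ g _ => by
      obtain ⟨x, hx⟩ := g.surjective (genericPoint B)
      have h := ((genericPoint_spec A).specializes (y := x) trivial).map g.continuous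
      rw [hx] at h
      exact (h.antisymm ((genericPoint_spec B).specializes trivial)).eq
    have hrη : rF (genericPoint Z) = genericPoint (FrobSch.frobTwist sZ p) := hgen rF
    refine ⟨FrobSch.frobTwist sZ p, pullback.fst sZ _ ≫ π, pullback.snd sZ _, F ≫ rF, ‹_›,
      hgen (F ≫ rF), ?_, ?_, inferInstance, ?_, fun a => ?_⟩
    · have h := (IsPullback.of_hasPullback sZ (FrobSch.frob (Spec (CommRingCat.of k)) p)).paste_horiz hpb
      convert h using 1
      rw [Groth.L15.Frob.frob_Spec, ← Spec.map_comp, ← CommRingCat.ofHom_comp,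
        show (frobenius k p).comp (iterateFrobenius k p r) = iterateFrobenius k p (r + 1) from
          RingHom.ext fun x => by simp [frobenius_def, iterateFrobenius_def, ← pow_mul, pow_succ]]
    · rw [Category.assoc, FrobSch.relFrob_snd, hF]
    · rw [Groth.L22.Cyc.residueDegree_comp, hη, hdeg,
        show rF.residueDegree (genericPoint Z) = p from (Groth.L15.Frob.residueDegree_relFrob k p Z 1
          (Groth.L03.SurfAdj.dim_of_relDim sZ 1)).trans (pow_one p), pow_succ, mul_comm]
    · obtain ⟨z, hz⟩ := hpow a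
      have hfst : pullback.fst sZ (FrobSch.frob (Spec (CommRingCat.of k)) p) (genericPoint (FrobSch.frobTwist sZ p)) =
          genericPoint Z := by
        rw [← hrη, ← Scheme.Hom.comp_apply, FrobSch.relFrob_fst, FrobSch.frob_apply]
      have hc : (rF ≫ pullback.fst sZ _) (genericPoint Z) = genericPoint Z := by
        rw [FrobSch.relFrob_fst, FrobSch.frob_apply]
      refine ⟨overMap (pullback.fst sZ _) _ _ hfst z, ?_⟩
      rw [overMap_comp F rF hη hrη]
      have h := congr($(overMap_comp rF (pullback.fst sZ _) hrη hfst hc) z)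
      rw [overMap_congr (FrobSch.relFrob_fst sZ p) hc (FrobSch.frob_apply Z p _), overMap_frob] at h
      refine (congrArg (overMap F _ _ hη) h.symm).trans ?_
      exact (map_pow _ z p).trans (by rw [hz, ← pow_mul, pow_succ])

end Groth.L21.Insep
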