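import Groth.Agent.L21.Insep.Field
import Groth.Agent.L21.Insep.Frob
import Groth.Agent.L21.Sep.SepPoint
import Groth.Agent.L18.ExtendCodimOne
import Groth.Agent.L19.SpreadLfp
import Groth.Agent.L21.Birational
import Mathlib.FieldTheory.IntermediateField.Adjoin.Algebra

/-!
A smooth curve purely inseparable over a normal curve: the latter is a Frobenius twist.
-/

set_option autoImplicit false
set_option backward.isDefEq.respectTransparency false
set_option linter.style.haveILetI false
universe u

open CategoryTheory CategoryTheory.Limits AlgebraicGeometry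

noncomputable section

namespace Groth.L21.Insep

open Groth.L21.Disc (overMap)

attribute [local instance] Curv2.stalkAlgebra

/-- A morphism on spectra of stalks determines the map of stalks. -/
theorem stalkMap_eq_of_fromSpecStalk {X Y : Scheme.{u}} (g : X ⟶ Y) {x : X} {y : Y} (h : g x = y)
    (φ : Y.presheaf.stalk y ⟶ X.presheaf.stalk x)
    (hφ : Spec.map φ ≫ Y.fromSpecStalk y = X.fromSpecStalk x ≫ g) :
    overMap g x y h = φ.hom := by
  subst h
  rw [← Scheme.SpecMap_stalkMap_fromSpecStalk, cancel_mono] at hφ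
  rw [Spec.map_injective hφ, Groth.L21.Disc.overMap_self]

theorem fromSpecStalk_comp_overMap {X Y : Scheme.{u}} (g : X ⟶ Y) {x : X} {y : Y} (h : g x = y) :
    Spec.map (CommRingCat.ofHom (overMap g x y h)) ≫ Y.fromSpecStalk y = X.fromSpecStalk x ≫ g := by
  subst h
  rw [Groth.L21.Disc.overMap_self]
  exact Scheme.SpecMap_stalkMap_fromSpecStalk g

variable (k : Type u) [Field k] {X Y : Scheme.{u}} [X.Over (Spec (CommRingCat.of k))] [Y.Over (Spec (CommRingCat.of k))]

/-- A morphism over the ground field respects constants at stalks. -/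
theorem overMap_algebraMap (g : X ⟶ Y) (hg : g ≫ (Y ↘ Spec (CommRingCat.of k)) = X ↘ Spec (CommRingCat.of k))
    {x : X} {y : Y} (h : g x = y) (c : k) :
    overMap g x y h (algebraMap k (Y.presheaf.stalk y) c) = algebraMap k (X.presheaf.stalk x) c := by
  show overMap g x y h (Y.presheaf.germ ⊤ y trivial ((Y ↘ Spec (CommRingCat.of k)).appTop
      ((Scheme.ΓSpecIso (CommRingCat.of k)).inv c))) =
    X.presheaf.germ ⊤ x trivial ((X ↘ Spec (CommRingCat.of k)).appTop ((Scheme.ΓSpecIso (CommRingCat.of k)).inv c))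
  rw [Groth.L21.Disc.overMap_germ, ← hg]
  rfl

theorem specMap_algebraMap_stalk (x : X) :
    Spec.map (CommRingCat.ofHom (algebraMap k (X.presheaf.stalk x))) =
      X.fromSpecStalk x ≫ (X ↘ Spec (CommRingCat.of k)) := by
  rw [fromSpecStalk_comp]
  rfl

variable [IsIntegral X] [IsProper (X ↘ Spec (CommRingCat.of k))] [Smooth (X ↘ Spec (CommRingCat.of k))]
  [IsIntegral Y] [IsProper (Y ↘ Spec (CommRingCat.of k))]

theorem exists_iso_frobeniusTwist (p : ℕ) [Fact p.Prime] [CharP k p]
    (hdX : topologicalKrullDim X = 1) (hdY : topologicalKrullDim Y = 1)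
    (hnY : ∀ y : Y, IsDomain (Y.presheaf.stalk y) ∧ IsIntegrallyClosed (Y.presheaf.stalk y))
    (f : X ⟶ Y) (hf : f ≫ (Y ↘ Spec (CommRingCat.of k)) = X ↘ Spec (CommRingCat.of k))
    (e : f (genericPoint X) = genericPoint Y)
    (hpi : letI := (overMap f (genericPoint X) (genericPoint Y) e).toAlgebra
      IsPurelyInseparable Y.functionField X.functionField) :
    ∃ (r : ℕ) (Z : Scheme.{u}) (π : Z ⟶ X) (sZ : Z ⟶ Spec (CommRingCat.of k)),
      IsPullback π sZ (X ↘ Spec (CommRingCat.of k)) (Spec.map (CommRingCat.ofHom (iterateFrobenius k p r))) ∧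
      ∃ i : Y ≅ Z, i.hom ≫ sZ = Y ↘ Spec (CommRingCat.of k) := by
  haveI := hpi
  letI := (overMap f (genericPoint X) (genericPoint Y) e).toAlgebra
  haveI : Algebra.IsAlgebraic Y.functionField X.functionField := inferInstance
  haveI : IsScalarTower k Y.functionField X.functionField :=
    IsScalarTower.of_algebraMap_eq fun c => (overMap_algebraMap k f hf e c).symm
  obtain ⟨⟨t, ht⟩, -, hess⟩ := Groth.L21.SepSeries.exists_span_functionField k hdX (X := X)
  haveI := hess
  haveI : Algebra.EssFiniteType Y.functionField X.functionField := Algebra.EssFiniteType.of_comp k _ _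
  haveI : FiniteDimensional Y.functionField X.functionField := Algebra.finite_of_essFiniteType_of_isAlgebraic
  haveI : CharP X.functionField p := charP_of_injective_algebraMap (algebraMap k X.functionField).injective p
  haveI : CharP Y.functionField p :=
    (RingHom.charP_iff (algebraMap Y.functionField X.functionField) (algebraMap Y.functionField X.functionField).injective p).2
      inferInstance
  obtain ⟨r, hr⟩ := IsPurelyInseparable.finrank_eq_pow Y.functionField X.functionField p
  obtain ⟨Z, π, sZ, F, hZ, hη, hpb, hF, hsurj, hdeg, hpow⟩ :=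
    exists_frobPow k p (X ↘ Spec (CommRingCat.of k)) hdX r
  haveI := hZ
  letI : Z.Over (Spec (CommRingCat.of k)) := ⟨sZ⟩
  refine ⟨r, Z, π, sZ, hpb, ?_⟩
  haveI : SmoothOfRelativeDimension 1 (X ↘ Spec (CommRingCat.of k)) :=
    Groth.L21.SmoothCurve.smoothOfRelativeDimension_one _ hdX
  haveI : SmoothOfRelativeDimension 1 sZ :=
    (smoothOfRelativeDimension_isStableUnderBaseChange (n := 1)).of_isPullback hpb inferInstance
  haveI : IsProper sZ := MorphismProperty.of_isPullback hpb inferInstance
  haveI : Smooth sZ := SmoothOfRelativeDimension.smooth 1 sZ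
  haveI : Smooth (Z ↘ Spec (CommRingCat.of k)) := ‹Smooth sZ›
  haveI : IsProper (Z ↘ Spec (CommRingCat.of k)) := ‹IsProper sZ›
  haveI := Groth.L21.RR.isNoetherian_of_proper (X := Z) k
  have hdZ : topologicalKrullDim Z = 1 := Groth.L03.SurfAdj.dim_of_relDim sZ 1
  -- the two subfields
  let a : Y.functionField →ₐ[k] X.functionField :=
    { overMap f (genericPoint X) (genericPoint Y) e with commutes' := overMap_algebraMap k f hf e }
  let b : Z.functionField →ₐ[k] X.functionField :=
    { overMap F (genericPoint X) (genericPoint Z) hη with commutes' := overMap_algebraMap k F hF hη }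
  have hdegF : (letI := (overMap F (genericPoint X) (genericPoint Z) hη).toAlgebra
      Module.finrank Z.functionField X.functionField) = p ^ r :=
    (Groth.L21.Disc.residueDegree_genericPoint F hη).symm.trans hdeg
  have hfr : ∀ {W : Scheme.{u}} [IsIntegral W] [W.Over (Spec (CommRingCat.of k))]
      (c : W.functionField →ₐ[k] X.functionField),
      (letI := c.toRingHom.toAlgebra; Module.finrank W.functionField X.functionField) =
        Module.finrank c.fieldRange X.functionField := fun {W} _ _ c => by
    letI := c.toRingHom.toAlgebra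
    exact Algebra.finrank_eq_of_equiv_equiv (AlgEquiv.ofInjectiveField c).toRingEquiv (RingEquiv.refl _)
      (RingHom.ext fun z => rfl)
  have hAB : a.fieldRange = b.fieldRange := by
    refine eq_of_finrank p ht (r := r) (fun x => ?_) (fun x => ?_) ((hfr a).symm.trans hr) ((hfr b).symm.trans hdegF)
    · obtain ⟨y, hy⟩ := pow_mem_range p hr x
      exact AlgHom.mem_fieldRange.2 ⟨y, hy⟩
    · obtain ⟨y, hy⟩ := hpow x
      exact AlgHom.mem_fieldRange.2 ⟨y, hy⟩
  let φ : Y.functionField ≃ₐ[k] Z.functionField :=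
    ((AlgEquiv.ofInjectiveField a).trans (IntermediateField.equivOfEq hAB)).trans (AlgEquiv.ofInjectiveField b).symm
  let φ' : Y.presheaf.stalk (genericPoint Y) ⟶ Z.presheaf.stalk (genericPoint Z) :=
    CommRingCat.ofHom φ.toRingEquiv.toRingHom
  -- spreading out and extending
  haveI : LocallyOfFinitePresentation (Y ↘ Spec (CommRingCat.of k)) := inferInstance
  obtain ⟨U, hηU, g₀, hg₀, hg₀s⟩ := Groth.L19.SpreadLfp.spread_out' (sX := sZ) (sY := Y ↘ Spec (CommRingCat.of k))
    (Spec.map φ' ≫ Y.fromSpecStalk (genericPoint Y)) (by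
      rw [Category.assoc, ← specMap_algebraMap_stalk, ← Spec.map_comp]
      refine Eq.trans (congrArg Spec.map (CommRingCat.hom_ext (RingHom.ext fun c => φ.commutes c))) ?_
      exact specMap_algebraMap_stalk k (X := Z) (genericPoint Z))
  have hU : Dense (U : Set Z) := U.2.dense ⟨_, hηU⟩
  have hT : ∀ z ∈ (Set.univ : Set Z), ∃ (_ : IsDomain (Z.presheaf.stalk z)), ValuationRing (Z.presheaf.stalk z) :=
    fun z _ => by
      haveI := Groth.L21.Smooth.isDomain_stalk sZ z
      haveI := Groth.L21.Smooth.isIntegrallyClosed_stalk sZ z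
      exact ⟨inferInstance, Groth.L18.Codim1.valuationRing_of_normal _
        ((Groth.L21.SmoothDescent.ringKrullDim_stalk_le z).trans hdZ.le)⟩
  obtain ⟨U', hUU', g₁, hg₁s, hg₁, hU'⟩ :=
    Groth.L18.Codim1.exists_extension_proper (Y ↘ Spec (CommRingCat.of k)) sZ U hU g₀ hg₀s Set.univ hT
  obtain rfl : U' = ⊤ := top_le_iff.1 fun z _ => hU' z trivial
  let g : Z ⟶ Y := Z.topIso.inv ≫ g₁
  have hgs : g ≫ (Y ↘ Spec (CommRingCat.of k)) = Z ↘ Spec (CommRingCat.of k) := by
    have hti : Z.topIso.inv ≫ (⊤ : Z.Opens).ι = 𝟙 Z := Z.topIso.inv_hom_id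
    rw [Category.assoc, hg₁s, reassoc_of% hti]
    rfl
  have hgU : U.ι ≫ g = g₀ := by
    rw [← hg₁, ← Category.assoc]
    refine congrArg (· ≫ g₁) ?_
    rw [← cancel_mono (⊤ : Z.Opens).ι]
    simp
  have hloc : Spec.map φ' ≫ Y.fromSpecStalk (genericPoint Y) = Z.fromSpecStalk (genericPoint Z) ≫ g := by
    rw [hg₀, ← hgU, ← Category.assoc, Scheme.Opens.fromSpecStalkOfMem_ι]
  have hgη : g (genericPoint Z) = genericPoint Y := by
    have h := congr($(hloc) (IsLocalRing.closedPoint _))
    rw [Scheme.Hom.comp_apply, Scheme.Hom.comp_apply, Scheme.fromSpecStalk_closedPoint] at h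
    refine h.symm.trans (Eq.trans (congrArg _ ?_) (Scheme.fromSpecStalk_closedPoint (X := Y) (x := genericPoint Y)))
    haveI : IsLocalHom φ'.hom := inferInstanceAs (IsLocalHom φ.toRingEquiv.toRingHom)
    exact IsLocalRing.comap_closedPoint φ'.hom
  have hst := stalkMap_eq_of_fromSpecStalk g hgη φ' hloc
  haveI : IsIso (g.stalkMap (genericPoint Z)) := by
    have hbij : Function.Bijective (overMap g (genericPoint Z) (genericPoint Y) hgη) := by
      rw [hst]; exact φ.bijective
    have key : ∀ (y : Y) (h : g (genericPoint Z) = y),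
        Function.Bijective (overMap g (genericPoint Z) y h) → IsIso (g.stalkMap (genericPoint Z)) := by
      rintro _ rfl hb
      rw [Groth.L21.Disc.overMap_self] at hb
      exact (ConcreteCategory.isIso_iff_bijective _).2 hb
    exact key _ hgη hbij
  haveI : IsIso g := Groth.L21.isIso_of_proper_curve sZ (Y ↘ Spec (CommRingCat.of k)) hdZ.le hdY hnY g hgs hgη
    inferInstance
  refine ⟨(asIso g).symm, ?_⟩
  rw [Iso.symm_hom, asIso_inv, IsIso.inv_comp_eq, hgs]
  rfl

end Groth.L21.Insep
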