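import Groth.Agent.L21.Insep.Compare

/-!
Morphisms of curves from maps of function fields, and the separable part of a map of curves.
-/

set_option autoImplicit false
set_option backward.isDefEq.respectTransparency false
set_option linter.style.haveILetI false
universe u

open CategoryTheory CategoryTheory.Limits AlgebraicGeometry

noncomputable section

namespace Groth.L21.Insep

open Groth.L21.Disc (overMap)

attribute [local instance] Curv2.stalkAlgebra

variable (k : Type u) [Field k] {Z Y : Scheme.{u}} [Z.Over (Spec (CommRingCat.of k))] [Y.Over (Spec (CommRingCat.of k))]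
  [IsIntegral Z] [IsProper (Z ↘ Spec (CommRingCat.of k))] [Smooth (Z ↘ Spec (CommRingCat.of k))]
  [IsIntegral Y] [IsProper (Y ↘ Spec (CommRingCat.of k))]

/-- A map of function fields over the constants comes from a morphism of curves. -/
theorem exists_hom_of_algHom (hdZ : topologicalKrullDim Z = 1) (φ : Y.functionField →ₐ[k] Z.functionField) :
    ∃ (g : Z ⟶ Y) (hgη : g (genericPoint Z) = genericPoint Y),
      g ≫ (Y ↘ Spec (CommRingCat.of k)) = Z ↘ Spec (CommRingCat.of k) ∧
      overMap g (genericPoint Z) (genericPoint Y) hgη = φ.toRingHom := by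
  let sZ := Z ↘ Spec (CommRingCat.of k)
  let φ' : Y.presheaf.stalk (genericPoint Y) ⟶ Z.presheaf.stalk (genericPoint Z) :=
    CommRingCat.ofHom φ.toRingHom
  haveI : LocallyOfFinitePresentation (Y ↘ Spec (CommRingCat.of k)) := inferInstance
  haveI := Groth.L21.RR.isNoetherian_of_proper (X := Z) k
  obtain ⟨U, hηU, g₀, hg₀, hg₀s⟩ := Groth.L19.SpreadLfp.spread_out' (sX := sZ) (sY := Y ↘ Spec (CommRingCat.of k))
    (Spec.map φ' ≫ Y.fromSpecStalk (genericPoint Y)) (by
      rw [Category.assoc, ← specMap_algebraMap_stalk, ← Spec.map_comp]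
      refine Eq.trans (congrArg Spec.map (CommRingCat.hom_ext (RingHom.ext fun c => φ.commutes c))) ?_
      exact specMap_algebraMap_stalk k (X := Z) (genericPoint Z))
  have hU : Dense (U : Set Z) := U.2.dense ⟨_, hηU⟩
  have hT : ∀ z ∈ (Set.univ : Set Z), ∃ (_ : IsDomain (Z.presheaf.stalk z)), ValuationRing (Z.presheaf.stalk z) :=
    fun z _ => by
      haveI := Groth.L21.Smooth.isDomain_stalk sZ z
      haveI := Groth.L21.Smooth.isIntegrallyClosed_stalk sZ z
      exact ⟨inferInstance, Groth.L18.Codim1.valuationRing_of_normal _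
        ((Groth.L21.SmoothDescent.ringKrullDim_stalk_le z).trans hdZ.le)⟩
  obtain ⟨U', hUU', g₁, hg₁s, hg₁, hU'⟩ :=
    Groth.L18.Codim1.exists_extension_proper (Y ↘ Spec (CommRingCat.of k)) sZ U hU g₀ hg₀s Set.univ hT
  obtain rfl : U' = ⊤ := top_le_iff.1 fun z _ => hU' z trivial
  let g : Z ⟶ Y := Z.topIso.inv ≫ g₁
  have hgs : g ≫ (Y ↘ Spec (CommRingCat.of k)) = Z ↘ Spec (CommRingCat.of k) := by
    have hti : Z.topIso.inv ≫ (⊤ : Z.Opens).ι = 𝟙 Z := Z.topIso.inv_hom_id
    rw [Category.assoc, hg₁s, reassoc_of% hti]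
  have hgU : U.ι ≫ g = g₀ := by
    rw [← hg₁, ← Category.assoc]
    refine congrArg (· ≫ g₁) ?_
    rw [← cancel_mono (⊤ : Z.Opens).ι]
    simp
  have hloc : Spec.map φ' ≫ Y.fromSpecStalk (genericPoint Y) = Z.fromSpecStalk (genericPoint Z) ≫ g := by
    rw [hg₀, ← hgU, ← Category.assoc, Scheme.Opens.fromSpecStalkOfMem_ι]
  have hgη : g (genericPoint Z) = genericPoint Y := by
    have h := congr($(hloc) (IsLocalRing.closedPoint _))
    rw [Scheme.Hom.comp_apply, Scheme.Hom.comp_apply, Scheme.fromSpecStalk_closedPoint] at h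
    refine h.symm.trans (Eq.trans (congrArg _ ?_) (Scheme.fromSpecStalk_closedPoint (X := Y) (x := genericPoint Y)))
    haveI : IsLocalHom φ'.hom := inferInstanceAs (IsLocalHom (φ.toRingHom : Y.functionField →+* Z.functionField))
    exact IsLocalRing.comap_closedPoint φ'.hom
  exact ⟨g, hgη, hgs, stalkMap_eq_of_fromSpecStalk g hgη φ' hloc⟩

variable {X : Scheme.{u}} [X.Over (Spec (CommRingCat.of k))] [IsIntegral X]
  [IsProper (X ↘ Spec (CommRingCat.of k))] [Smooth (X ↘ Spec (CommRingCat.of k))]

omit [IsIntegral Z] [IsProper (Z ↘ Spec (CommRingCat.of k))] [Smooth (Z ↘ Spec (CommRingCat.of k))] [Z.Over (Spec (CommRingCat.of k))] in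
/-- A map from a smooth curve factors, up to cohomology, through a separable one. -/
theorem exists_separable_part (p : ℕ) [Fact p.Prime] [CharP k p] (hdX : topologicalKrullDim X = 1)
    (hdY : topologicalKrullDim Y = 1) (f : X ⟶ Y)
    (hf : f ≫ (Y ↘ Spec (CommRingCat.of k)) = X ↘ Spec (CommRingCat.of k))
    (e : f (genericPoint X) = genericPoint Y)
    (hfin : letI := (overMap f (genericPoint X) (genericPoint Y) e).toAlgebra
      FiniteDimensional Y.functionField X.functionField) :
    ∃ (r : ℕ) (W : Scheme.{u}) (π : W ⟶ X) (sW : W ⟶ Spec (CommRingCat.of k)) (g : W ⟶ Y)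
      (_ : IsIntegral W) (hgη : g (genericPoint W) = genericPoint Y),
      IsPullback π sW (X ↘ Spec (CommRingCat.of k)) (Spec.map (CommRingCat.ofHom (iterateFrobenius k p r))) ∧
      topologicalKrullDim W = 1 ∧ g ≫ (Y ↘ Spec (CommRingCat.of k)) = sW ∧
      (letI := (overMap g (genericPoint W) (genericPoint Y) hgη).toAlgebra
       Algebra.IsSeparable Y.functionField W.functionField) := by
  letI := (overMap f (genericPoint X) (genericPoint Y) e).toAlgebra
  haveI := hfin
  haveI : IsScalarTower k Y.functionField X.functionField :=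
    IsScalarTower.of_algebraMap_eq fun c => (overMap_algebraMap k f hf e c).symm
  obtain ⟨⟨t, ht⟩, -, hess⟩ := Groth.L21.SepSeries.exists_span_functionField k hdX (X := X)
  haveI := hess
  haveI : CharP X.functionField p := charP_of_injective_algebraMap (algebraMap k X.functionField).injective p
  haveI : CharP Y.functionField p :=
    (RingHom.charP_iff (algebraMap Y.functionField X.functionField) (algebraMap Y.functionField X.functionField).injective p).2
      inferInstance
  let L := separableClosure Y.functionField X.functionField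
  haveI : CharP L p :=
    (RingHom.charP_iff (algebraMap L X.functionField) (algebraMap L X.functionField).injective p).2 inferInstance
  obtain ⟨r, hr⟩ := IsPurelyInseparable.finrank_eq_pow L X.functionField p
  obtain ⟨W, π, sW, F, hW, hη, hpb, hF, hsurj, hdeg, hpow⟩ :=
    exists_frobPow k p (X ↘ Spec (CommRingCat.of k)) hdX r
  haveI := hW
  letI : W.Over (Spec (CommRingCat.of k)) := ⟨sW⟩
  haveI : SmoothOfRelativeDimension 1 (X ↘ Spec (CommRingCat.of k)) :=
    Groth.L21.SmoothCurve.smoothOfRelativeDimension_one _ hdX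
  haveI : SmoothOfRelativeDimension 1 sW :=
    (smoothOfRelativeDimension_isStableUnderBaseChange (n := 1)).of_isPullback hpb inferInstance
  haveI : IsProper sW := MorphismProperty.of_isPullback hpb inferInstance
  haveI : Smooth sW := SmoothOfRelativeDimension.smooth 1 sW
  haveI : Smooth (W ↘ Spec (CommRingCat.of k)) := ‹Smooth sW›
  haveI : IsProper (W ↘ Spec (CommRingCat.of k)) := ‹IsProper sW›
  have hdW : topologicalKrullDim W = 1 := Groth.L03.SurfAdj.dim_of_relDim sW 1
  let a : Y.functionField →ₐ[k] X.functionField :=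
    { overMap f (genericPoint X) (genericPoint Y) e with commutes' := overMap_algebraMap k f hf e }
  let b : W.functionField →ₐ[k] X.functionField :=
    { overMap F (genericPoint X) (genericPoint W) hη with commutes' := overMap_algebraMap k F hF hη }
  have hdegF : (letI := (overMap F (genericPoint X) (genericPoint W) hη).toAlgebra
      Module.finrank W.functionField X.functionField) = p ^ r :=
    (Groth.L21.Disc.residueDegree_genericPoint F hη).symm.trans hdeg
  have hb : Module.finrank b.fieldRange X.functionField = p ^ r := by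
    letI := (overMap F (genericPoint X) (genericPoint W) hη).toAlgebra
    refine Eq.trans ?_ hdegF
    exact (Algebra.finrank_eq_of_equiv_equiv (AlgEquiv.ofInjectiveField b).toRingEquiv (RingEquiv.refl _)
      (RingHom.ext fun z => rfl)).symm
  let L' : IntermediateField k X.functionField := L.restrictScalars k
  have hL' : L' = b.fieldRange := by
    refine eq_of_finrank p ht (r := r) (fun x => ?_) (fun x => ?_) hr hb
    · obtain ⟨y, hy⟩ := pow_mem_range p hr x
      exact hy ▸ y.2
    · obtain ⟨y, hy⟩ := hpow x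
      exact AlgHom.mem_fieldRange.2 ⟨y, hy⟩
  have haL : ∀ y, a y ∈ b.fieldRange := fun y => hL' ▸ L.algebraMap_mem y
  let eb : W.functionField ≃ₐ[k] b.fieldRange := AlgEquiv.ofInjectiveField b
  let φ : Y.functionField →ₐ[k] W.functionField :=
    eb.symm.toAlgHom.comp (a.codRestrict b.fieldRange.toSubalgebra haL)
  obtain ⟨g, hgη, hgs, hgφ⟩ := exists_hom_of_algHom k hdW φ
  refine ⟨r, W, π, sW, g, hW, hgη, hpb, hdW, hgs, ?_⟩
  rw [hgφ]
  letI := φ.toRingHom.toAlgebra
  have hbφ : ∀ y, b (φ y) = a y := fun y => congrArg Subtype.val (eb.apply_symm_apply ⟨a y, haL y⟩)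
  let ψ : W.functionField →ₐ[Y.functionField] X.functionField :=
    { b.toRingHom with commutes' := hbφ }
  refine ⟨fun w => ?_⟩
  have hw : ψ w ∈ L := by
    have h : b w ∈ b.fieldRange := AlgHom.mem_fieldRange.2 ⟨w, rfl⟩
    rw [← hL'] at h
    exact h
  rw [IsSeparable, ← minpoly.algHom_eq ψ ψ.toRingHom.injective w]
  exact mem_separableClosure_iff.1 hw

end Groth.L21.Insep
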