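import Groth.Agent.L21.Sep.DiffKer
import Mathlib.FieldTheory.PurelyInseparable.Basic
import Mathlib.FieldTheory.IntermediateField.Algebraic

/-!
Subfields of small index of a function field of one variable containing the high powers.
-/

set_option autoImplicit false
set_option backward.isDefEq.respectTransparency false
universe u

open Polynomial IntermediateField

namespace Groth.L21.Insep

variable {k K : Type u} [Field k] [Field K] [Algebra k K] (p : ℕ) [Fact p.Prime] [CharP K p]

/-- The high powers in a purely inseparable extension of bounded degree. -/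
theorem pow_mem_range {L : Type u} [Field L] [Algebra L K] [FiniteDimensional L K] [IsPurelyInseparable L K]
    {r : ℕ} (hr : Module.finrank L K = p ^ r) (x : K) : x ^ p ^ r ∈ (algebraMap L K).range := by
  haveI : CharP L p := (RingHom.charP_iff (algebraMap L K) (algebraMap L K).injective p).2 inferInstance
  obtain ⟨n, y, hy⟩ := IsPurelyInseparable.minpoly_eq_X_pow_sub_C L p x
  have hdeg : p ^ n ≤ p ^ r := by
    have h := minpoly.natDegree_le (A := L) x
    rwa [hy, natDegree_X_pow_sub_C, hr] at h
  have hnr : n ≤ r := (Nat.pow_le_pow_iff_right (Fact.out : p.Prime).one_lt).1 hdeg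
  have hxy : x ^ p ^ n = algebraMap L K y := by
    have h := minpoly.aeval L x
    rw [hy, map_sub, map_pow, aeval_X, aeval_C, sub_eq_zero] at h
    exact h
  obtain ⟨m, rfl⟩ := Nat.exists_eq_add_of_le hnr
  exact ⟨y ^ p ^ m, by rw [map_pow, ← hxy, ← pow_mul, pow_add]⟩

variable [Algebra.EssFiniteType k K] {t : K}
  (ht : ∀ y, KaehlerDifferential.D k K y ∈ Submodule.span K {KaehlerDifferential.D k K t})

include ht in
/-- Subfields of index `p ^ r` over the constants containing all `p ^ r`-th powers coincide. -/
theorem eq_of_finrank {r : ℕ} {A B : IntermediateField k K} (hA : ∀ x : K, x ^ p ^ r ∈ A)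
    (hB : ∀ x : K, x ^ p ^ r ∈ B) (hA' : Module.finrank A K = p ^ r) (hB' : Module.finrank B K = p ^ r) :
    A = B := by
  let M : IntermediateField k K := adjoin k (Set.range fun x : K => x ^ p ^ r)
  have hM : ∀ x : K, x ^ p ^ r ∈ M := fun x => subset_adjoin k _ ⟨x, rfl⟩
  haveI : CharP M p := (RingHom.charP_iff (algebraMap M K) (algebraMap M K).injective p).2 inferInstance
  haveI : IsPurelyInseparable M K := by
    rw [isPurelyInseparable_iff_pow_mem M p]
    exact fun y => ⟨r, ⟨⟨_, hM y⟩, rfl⟩⟩
  have htop : M⟮t⟯ = ⊤ := by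
    haveI : IsScalarTower k M⟮t⟯ K := IsScalarTower.of_algebraMap_eq fun c => rfl
    haveI : Algebra.IsSeparable M⟮t⟯ K :=
      Groth.L21.DiffKer.isSeparable_of_mem ht ⟨⟨t, mem_adjoin_simple_self M t⟩, rfl⟩
    haveI : IsPurelyInseparable M⟮t⟯ K := IsPurelyInseparable.tower_top M M⟮t⟯ K
    refine eq_top_iff.2 fun y _ => ?_
    obtain ⟨z, rfl⟩ := IsPurelyInseparable.surjective_algebraMap_of_isSeparable M⟮t⟯ K y
    exact z.2
  let P : Polynomial M := X ^ p ^ r - Polynomial.C ⟨t ^ p ^ r, hM t⟩
  have hP : P.Monic := monic_X_pow_sub_C _ (pow_ne_zero _ (Fact.out : p.Prime).ne_zero)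
  have hPt : Polynomial.aeval t P = 0 := by simp [P]
  have hint : IsIntegral M t := ⟨P, hP, hPt⟩
  haveI : FiniteDimensional M M⟮t⟯ := adjoin.finiteDimensional hint
  haveI hfin : FiniteDimensional M K := by
    haveI : FiniteDimensional M (⊤ : IntermediateField M K) := htop ▸ ‹FiniteDimensional M M⟮t⟯›
    exact LinearEquiv.finiteDimensional (IntermediateField.topEquiv (F := M) (E := K)).toLinearEquiv
  have hle : Module.finrank M K ≤ p ^ r := by
    calc Module.finrank M K = Module.finrank M (⊤ : IntermediateField M K) := finrank_top'.symm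
      _ = Module.finrank M M⟮t⟯ := by rw [htop]
      _ = (minpoly M t).natDegree := adjoin.finrank hint
      _ ≤ P.natDegree := natDegree_le_natDegree (minpoly.min M t hP hPt)
      _ = p ^ r := natDegree_X_pow_sub_C
  have key : ∀ A : IntermediateField k K, (∀ x : K, x ^ p ^ r ∈ A) → Module.finrank A K = p ^ r → M = A := by
    intro A hA hA'
    exact eq_of_le_of_finrank_le' (adjoin_le_iff.2 (by rintro _ ⟨x, rfl⟩; exact hA x)) (hle.trans hA'.ge)
  exact (key A hA hA').symm.trans (key B hB hB')

end Groth.L21.Insep
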